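import Groth.Agent.Lib.FEtLimit21.FieldExt
import Groth.Agent.Lib.FEt21.UHEquiv
import Groth.Agent.Lib.PerfClosCyc.Fibre
import Mathlib.FieldTheory.PurelyInseparable.Basic
import Mathlib.RingTheory.Etale.Field

/-!
# Finite étale covers over an algebraic closure come from finite separable extensions
-/

set_option autoImplicit false
set_option backward.isDefEq.respectTransparency false
set_option linter.style.haveILetI false
universe u

open CategoryTheory Limits AlgebraicGeometry Opposite

noncomputable section

namespace GrothLib.FEtLimit21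

variable {k : Type u} [Field k] (K : Type u) [Field K] [Algebra k K] {X : Scheme.{u}}
  (f : X ⟶ Spec (CommRingCat.of k))

/-- The map to a stage is a base change. -/
theorem isPullback_toStage (L : IntermediateField k K) :
    IsPullback (toStage K f L) (pullback.snd f (Spec.map (CommRingCat.ofHom (algebraMap k K))))
      (pullback.snd f (stageMap K L)) (Spec.map (CommRingCat.ofHom (algebraMap L K))) := by
  refine IsPullback.of_right ?_ (toStage_snd K f L) (IsPullback.of_hasPullback f (stageMap K L))
  rw [toStage_fst, stageMap, ← Spec.map_comp, ← CommRingCat.ofHom_comp, ← IsScalarTower.algebraMap_eq]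
  exact IsPullback.of_hasPullback _ _

variable (k) in
/-- The separable closure inside the algebraic closure. -/
abbrev sepK : IntermediateField k (AlgebraicClosure k) := separableClosure k (AlgebraicClosure k)

/-- The map from the geometric base change to the base change to the separable closure. -/
abbrev toSep : pullback f (Spec.map (CommRingCat.ofHom (algebraMap k (AlgebraicClosure k)))) ⟶
    pullback f (stageMap (AlgebraicClosure k) (sepK k)) :=
  toStage (AlgebraicClosure k) f (sepK k)

theorem toSep_uh : IsIntegralHom (toSep f) ∧ UniversallyInjective (toSep f) ∧ Surjective (toSep f) := by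
  have sq := (isPullback_toStage (AlgebraicClosure k) f (sepK k)).flip
  refine ⟨MorphismProperty.of_isPullback (P := @IsIntegralHom) sq ?_,
    MorphismProperty.of_isPullback (P := @UniversallyInjective) sq
      (GrothLib.PerfClosCyc.universallyInjective_specMap (sepK k) (AlgebraicClosure k)),
    MorphismProperty.of_isPullback (P := @Surjective) sq
      ⟨fun z => ⟨default, @Subsingleton.elim (PrimeSpectrum (sepK k)) _ _ z⟩⟩⟩
  rw [IsIntegralHom.SpecMap_iff]
  intro x
  exact Algebra.IsIntegral.isIntegral (R := sepK k) x

/-- The map from the geometric base change to a finite separable stage. -/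
abbrev toSepStage (L : IntermediateField k (sepK k)) :
    pullback f (Spec.map (CommRingCat.ofHom (algebraMap k (AlgebraicClosure k)))) ⟶
      pullback f (stageMap (sepK k) L) :=
  toSep f ≫ toStage (sepK k) f L

@[reassoc]
theorem toSepStage_fst (L : IntermediateField k (sepK k)) :
    toSepStage f L ≫ pullback.fst f (stageMap (sepK k) L) = pullback.fst _ _ := by
  rw [Category.assoc, toStage_fst]
  exact toStage_fst _ _ _

/-- A finite separable stage is finite étale over the scheme. -/
theorem prop_stage_fst (L : IntermediateField k (sepK k)) [FiniteDimensional k L] :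
    FEt.prop (pullback.fst f (stageMap (sepK k) L)) := by
  haveI : Algebra.IsSeparable k (sepK k) := separableClosure.isSeparable _ _
  haveI : Algebra.IsSeparable k L := Algebra.isSeparable_tower_bot_of_isSeparable k L (sepK k)
  haveI : Algebra.FormallyEtale k L := Algebra.FormallyEtale.of_isSeparable k L
  haveI : Algebra.Etale k L := ⟨inferInstance, Algebra.FinitePresentation.of_finiteType.1 inferInstance⟩
  have h1 : IsFinite (stageMap (sepK k) L) :=
    (IsFinite.SpecMap_iff _).2 (RingHom.finite_algebraMap.2 inferInstance)
  have h2 : Etale (stageMap (sepK k) L) :=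
    (HasRingHomProperty.Spec_iff (P := @Etale)).2 (RingHom.etale_algebraMap.2 inferInstance)
  exact MorphismProperty.pullback_fst (P := FEt.prop) _ _ ⟨h1, h2⟩

variable [CompactSpace X] [QuasiSeparatedSpace X]

/-- Covers over the algebraic closure come from finite separable stages. -/
theorem exists_cover_algClosure
    (V : FEt.Cat (pullback f (Spec.map (CommRingCat.ofHom (algebraMap k (AlgebraicClosure k)))))) :
    ∃ (L : IntermediateField k (sepK k)) (_ : FiniteDimensional k L)
      (VL : FEt.Cat (pullback f (stageMap (sepK k) L))),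
      Nonempty ((FEt.restrict (toSepStage f L)).obj VL ≅ V) := by
  obtain ⟨_, _, _⟩ := toSep_uh f
  haveI := GrothLib.FEt21.isEquivalence_of_uh (toSep f)
  haveI : Algebra.IsAlgebraic k (sepK k) := inferInstance
  obtain ⟨L, hL, VL, ⟨e⟩⟩ := exists_cover_finSub (sepK k) f ((FEt.restrict (toSep f)).objPreimage V)
  exact ⟨L, hL, VL, ⟨(MorphismProperty.Over.pullbackComp (toSep f) (toStage (sepK k) f L)).app VL ≪≫
    (FEt.restrict (toSep f)).mapIso e ≪≫ (FEt.restrict (toSep f)).objObjPreimageIso V⟩⟩

/-- Sections over the algebraic closure come from finite separable stages. -/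
theorem exists_section_algClosure (U : FEt.Cat X)
    (s : pullback f (Spec.map (CommRingCat.ofHom (algebraMap k (AlgebraicClosure k)))) ⟶ U.left)
    (hs : s ≫ U.hom = pullback.fst _ _) :
    ∃ (L : IntermediateField k (sepK k)) (_ : FiniteDimensional k L)
      (sL : pullback f (stageMap (sepK k) L) ⟶ U.left),
      sL ≫ U.hom = pullback.fst _ _ ∧ toSepStage f L ≫ sL = s := by
  obtain ⟨_, _, _⟩ := toSep_uh f
  obtain ⟨hfull, hfaith⟩ := GrothLib.FEt21.fullyFaithful_of_uh (toSep f)
  let p := pullback.fst f (stageMap (AlgebraicClosure k) (sepK k))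
  let T : FEt.Cat (pullback f (stageMap (AlgebraicClosure k) (sepK k))) :=
    MorphismProperty.Over.mk ⊤ (𝟙 _) (FEt.prop.id_mem _)
  let W := (FEt.restrict p).obj U
  have hc : toSep f ≫ p = pullback.fst _ _ := toStage_fst _ _ _
  let a : pullback (𝟙 _) (toSep f) ⟶ pullback (pullback.snd U.hom p) (toSep f) :=
    pullback.lift (pullback.lift (pullback.snd _ _ ≫ s) (pullback.snd _ _ ≫ toSep f)
      (by rw [Category.assoc, Category.assoc, hs, hc])) (pullback.snd _ _) (pullback.lift_snd _ _ _)
  let χ : (FEt.restrict (toSep f)).obj T ⟶ (FEt.restrict (toSep f)).obj W :=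
    MorphismProperty.Over.homMk a (pullback.lift_snd _ _ _)
  obtain ⟨ψ, hψ⟩ := (FEt.restrict (toSep f)).map_surjective χ
  let s' : pullback f (stageMap (AlgebraicClosure k) (sepK k)) ⟶ U.left :=
    ψ.left ≫ pullback.fst U.hom p
  have hψw : ψ.left ≫ pullback.snd U.hom p = 𝟙 _ := Over.w ψ.hom
  have hs' : s' ≫ U.hom = p := by
    rw [Category.assoc, pullback.condition, ← Category.assoc, hψw]
    exact Category.id_comp p
  have hts : toSep f ≫ s' = s := by
    have h1 : ((FEt.restrict (toSep f)).map ψ).left ≫ pullback.fst W.hom (toSep f) =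
        pullback.fst T.hom (toSep f) ≫ ψ.left := restrict_map_fst _ ψ
    rw [hψ] at h1
    have h2 : a ≫ pullback.fst W.hom (toSep f) = pullback.fst (𝟙 _) (toSep f) ≫ ψ.left := h1
    let σ : pullback f (Spec.map (CommRingCat.ofHom (algebraMap k (AlgebraicClosure k)))) ⟶
        pullback (𝟙 _) (toSep f) := pullback.lift (toSep f) (𝟙 _) (by simp)
    have h3 : a ≫ pullback.fst W.hom (toSep f) ≫ pullback.fst U.hom p = pullback.snd _ _ ≫ s :=
      (pullback.lift_fst_assoc _ _ _ _).trans (pullback.lift_fst _ _ _)
    calc toSep f ≫ s' = σ ≫ (pullback.fst (𝟙 _) (toSep f) ≫ ψ.left) ≫ pullback.fst U.hom p := by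
          rw [Category.assoc, pullback.lift_fst_assoc]
      _ = σ ≫ (a ≫ pullback.fst W.hom (toSep f)) ≫ pullback.fst U.hom p := by rw [h2]
      _ = s := by
          erw [Category.assoc, h3]
          rw [pullback.lift_snd_assoc, Category.id_comp]
  haveI : Algebra.IsAlgebraic k (sepK k) := inferInstance
  let t : bcDiag (sepK k) f ⟶ (Functor.const _).obj X :=
    { app := fun L => pullback.fst f (stageMap (sepK k) L.unop.1)
      naturality := fun L M h => (bcDiag_map_fst (sepK k) f h).trans (Category.comp_id _).symm }
  haveI : Etale U.hom := U.prop.2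
  obtain ⟨L, g, hg, hg'⟩ := Scheme.exists_π_app_comp_eq_of_locallyOfFinitePresentation
    (bcDiag (sepK k) f) t U.hom (bcCone (sepK k) f) (isLimitBcCone (sepK k) f) s' (by
      ext L : 2
      exact (toStage_fst (sepK k) f L.unop.1).trans hs'.symm)
  refine ⟨L.unop.1, L.unop.2, g, hg', ?_⟩
  rw [Category.assoc]
  exact (congrArg (toSep f ≫ ·) hg).trans hts

end GrothLib.FEtLimit21
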