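import Groth.Prelude.Def_FEt
import Groth.Agent.Lib.LimDescend.Scheme
import Groth.Agent.Lib.FlatLimit.Scheme
import Groth.Agent.Lib.LimDesc.Finite
import Mathlib.AlgebraicGeometry.Morphisms.Finite

/-!
# Finite étale covers of a limit descend to a stage
-/

set_option autoImplicit false
set_option backward.isDefEq.respectTransparency false
set_option linter.style.haveILetI false
universe u

open CategoryTheory Limits AlgebraicGeometry

namespace GrothLib.FEtLimit21

open GrothLib.LimDesc GrothLib.LimDescend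

variable {I : Type u} [SmallCategory I] [IsCofiltered I] (D : I ⥤ Scheme.{u}) (c : Cone D)
  (hc : IsLimit c) [∀ (i j : I) (f : i ⟶ j), IsAffineHom (D.map f)] [∀ i, CompactSpace (D.obj i)]
  [∀ i, QuasiSeparatedSpace (D.obj i)]

omit [IsCofiltered I] [∀ i, CompactSpace (D.obj i)] [∀ i, QuasiSeparatedSpace (D.obj i)]
  [∀ (i j : I) (f : i ⟶ j), IsAffineHom (D.map f)] in
/-- A property of the structure map of a stage. -/
theorem stage_prop {i₀ : I} {X₀ : Scheme.{u}} (f₀ : X₀ ⟶ D.obj i₀) (P : MorphismProperty Scheme.{u})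
    [P.RespectsIso]
    (H : ∃ (i : I) (φ : i ⟶ i₀) (Xi Yi : Scheme.{u}) (fi : Xi ⟶ Yi) (gi : Yi ⟶ D.obj i)
      (pY : Yi ⟶ D.obj i₀) (pX : Xi ⟶ X₀), IsPullback pY gi (𝟙 (D.obj i₀)) (D.map φ) ∧
        IsPullback pX fi f₀ pY ∧ P fi) :
    ∃ (i : I) (φ : i ⟶ i₀), P (pullback.snd f₀ (D.map φ)) := by
  obtain ⟨i, φ, Xi, Yi, fi, gi, pY, pX, hY, hX, hP⟩ := H
  haveI : IsIso gi := MorphismProperty.of_isPullback (P := MorphismProperty.isomorphisms Scheme.{u})
    hY (inferInstanceAs (IsIso (𝟙 (D.obj i₀))))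
  have h : IsPullback pX (fi ≫ gi) (f₀ ≫ 𝟙 _) (D.map φ) := hX.paste_vert hY
  rw [Category.comp_id] at h
  refine ⟨i, φ, ?_⟩
  rw [← h.isoPullback_inv_snd, P.cancel_left_of_respectsIso,
    P.cancel_right_of_respectsIso]
  exact hP

include hc in
/-- Finite étale covers of the limit come from a stage. -/
theorem exists_cover (V : FEt.Cat c.pt) :
    ∃ (i : I) (Vi : FEt.Cat (D.obj i)), Nonempty ((FEt.restrict (c.π.app i)).obj Vi ≅ V) := by
  haveI : IsFinite V.hom := V.prop.1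
  haveI : Etale V.hom := V.prop.2
  obtain ⟨i₀⟩ := IsCofiltered.nonempty (C := I)
  haveI : CompactSpace c.pt := Scheme.compactSpace_of_isLimit D c hc
  obtain ⟨i, ⟨M⟩⟩ := exists_model D c hc (X := V.left) V.hom
  haveI := compactSpace_model D c M
  haveI := quasiSeparatedSpace_model D c M
  have hY : IsPullback (c.π.app i) (𝟙 c.pt) (𝟙 (D.obj i)) (c.π.app i) := IsPullback.of_id_fst.flip
  obtain ⟨i₁, φ₁, he⟩ := stage_prop D M.hom @Etale
    (GrothLib.LimDesc.exists_stage D i M.hom (𝟙 _) (fun f => Etale f)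
      (GrothLib.LimDesc.exists_etale D hc M.hom (𝟙 _) hY M.isPullback))
  let M₁ := M.map D c φ₁
  haveI := compactSpace_model D c M₁
  haveI := quasiSeparatedSpace_model D c M₁
  have hY₁ : IsPullback (c.π.app i₁) (𝟙 c.pt) (𝟙 (D.obj i₁)) (c.π.app i₁) := IsPullback.of_id_fst.flip
  obtain ⟨i₂, φ₂, hf⟩ := stage_prop D M₁.hom @IsFinite
    (GrothLib.LimDesc.exists_stage D i₁ M₁.hom (𝟙 _) (fun f => IsFinite f)
      (GrothLib.LimDesc.exists_isFinite D hc M₁.hom (𝟙 _) hY₁ M₁.isPullback))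
  let M₂ := M₁.map D c φ₂
  have he₂ : Etale M₂.hom := MorphismProperty.pullback_snd (P := @Etale) M₁.hom (D.map φ₂) he
  let Vi : FEt.Cat (D.obj i₂) := MorphismProperty.Over.mk ⊤ M₂.hom ⟨hf, he₂⟩
  exact ⟨i₂, Vi, ⟨MorphismProperty.Over.isoMk M₂.isPullback.isoPullback.symm
    (M₂.isPullback.isoPullback_inv_snd)⟩⟩

omit [IsCofiltered I] [∀ i, CompactSpace (D.obj i)] [∀ i, QuasiSeparatedSpace (D.obj i)]
  [∀ (i j : I) (f : i ⟶ j), IsAffineHom (D.map f)] in
theorem restrict_map_fst {X Y : Scheme.{u}} (f : X ⟶ Y) {A B : FEt.Cat Y} (φ : A ⟶ B) :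
    ((FEt.restrict f).map φ).left ≫ pullback.fst B.hom f = pullback.fst A.hom f ≫ φ.left :=
  pullback.lift_fst _ _ _

include hc in
/-- Morphisms agreeing on the limit agree at a stage. -/
theorem exists_hom_stage_eq (i : I) (Vi Wi : FEt.Cat (D.obj i)) (φ ψ : Vi ⟶ Wi)
    (h : (FEt.restrict (c.π.app i)).map φ = (FEt.restrict (c.π.app i)).map ψ) :
    ∃ (j : I) (a : j ⟶ i), (FEt.restrict (D.map a)).map φ = (FEt.restrict (D.map a)).map ψ := by
  haveI : IsFinite Vi.hom := Vi.prop.1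
  haveI : IsFinite Wi.hom := Wi.prop.1
  haveI : CompactSpace Vi.left := QuasiCompact.compactSpace_of_compactSpace (show Vi.left ⟶ D.obj i from Vi.hom)
  haveI : QuasiSeparatedSpace Vi.left :=
    quasiSeparatedSpace_of_quasiSeparated (show Vi.left ⟶ D.obj i from Vi.hom)
  haveI : CompactSpace ↥((𝟭 Scheme.{u}).obj Vi.left) := ‹CompactSpace Vi.left›
  haveI : QuasiSeparatedSpace ↥((𝟭 Scheme.{u}).obj Vi.left) := ‹QuasiSeparatedSpace Vi.left›
  haveI : LocallyOfFiniteType Wi.hom := inferInstance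
  have hP := IsPullback.of_hasPullback Vi.hom (c.π.app i)
  let k : Over i := Over.mk (𝟙 i)
  let lft : (χ : Vi ⟶ Wi) → (pullback Vi.hom (D.map k.hom) ⟶ pullback Wi.hom (D.map k.hom)) := fun χ =>
    pullback.lift (pullback.fst _ _ ≫ χ.left) (pullback.snd _ _) (by
      rw [Category.assoc]
      exact (congrArg (pullback.fst Vi.hom (D.map k.hom) ≫ ·) (Over.w χ.hom)).trans pullback.condition)
  obtain ⟨l, a, hl⟩ := exists_hom_eq D Vi.hom Wi.hom hP hc (k := k) (lft φ) (lft ψ)
    (pullback.lift_snd _ _ _) (pullback.lift_snd _ _ _) (by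
      apply pullback.hom_ext
      · rw [Category.assoc, Category.assoc, pullback.lift_fst, pullback.lift_fst,
          π_fst_assoc, π_fst_assoc, ← restrict_map_fst, ← restrict_map_fst, h]
      · rw [Category.assoc, Category.assoc, pullback.lift_snd, pullback.lift_snd])
  refine ⟨l.left, l.hom, ?_⟩
  have hfst : pullback.fst Vi.hom (D.map l.hom) ≫ φ.left = pullback.fst Vi.hom (D.map l.hom) ≫ ψ.left := by
    have h' := congrArg (· ≫ pullback.fst Wi.hom (D.map k.hom)) hl
    simp only [Category.assoc, lft, pullback.lift_fst] at h'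
    rwa [map_fst_assoc, map_fst_assoc] at h'
  ext : 1
  exact pullback.hom_ext ((restrict_map_fst _ φ).trans (hfst.trans (restrict_map_fst _ ψ).symm))
    ((Over.w ((FEt.restrict (D.map l.hom)).map φ).hom).trans
      (Over.w ((FEt.restrict (D.map l.hom)).map ψ).hom).symm)

include hc in
/-- Morphisms over the limit come from a stage. -/
theorem exists_hom_stage (i : I) (Vi Wi : FEt.Cat (D.obj i))
    (χ : (FEt.restrict (c.π.app i)).obj Vi ⟶ (FEt.restrict (c.π.app i)).obj Wi) :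
    ∃ (j : I) (a : j ⟶ i) (g : (FEt.restrict (D.map a)).obj Vi ⟶ (FEt.restrict (D.map a)).obj Wi),
      pullback.lift (pullback.fst Vi.hom (c.π.app i)) (pullback.snd _ _ ≫ c.π.app j)
          (by rw [Category.assoc, c.w, pullback.condition]) ≫ g.left ≫ pullback.fst Wi.hom (D.map a) =
        χ.left ≫ pullback.fst Wi.hom (c.π.app i) := by
  haveI : IsFinite Vi.hom := Vi.prop.1
  haveI : Etale Wi.hom := Wi.prop.2
  haveI : CompactSpace Vi.left := QuasiCompact.compactSpace_of_compactSpace (show Vi.left ⟶ D.obj i from Vi.hom)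
  haveI : QuasiSeparatedSpace Vi.left :=
    quasiSeparatedSpace_of_quasiSeparated (show Vi.left ⟶ D.obj i from Vi.hom)
  haveI : CompactSpace ↥((𝟭 Scheme.{u}).obj Vi.left) := ‹CompactSpace Vi.left›
  haveI : QuasiSeparatedSpace ↥((𝟭 Scheme.{u}).obj Vi.left) := ‹QuasiSeparatedSpace Vi.left›
  obtain ⟨k, g, hg, hg'⟩ := exists_hom D Vi.hom Wi.hom (IsPullback.of_hasPullback Vi.hom (c.π.app i))
    (IsPullback.of_hasPullback Wi.hom (c.π.app i)) hc χ.left (Over.w χ.hom)
  refine ⟨k.left, k.hom, MorphismProperty.Over.homMk g hg, ?_⟩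
  have h2 := congrArg (· ≫ pullback.fst Wi.hom (D.map k.hom)) hg'
  simp only [Category.assoc, π_fst] at h2
  exact h2

end GrothLib.FEtLimit21
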